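import Mathlib
import Cfsg.Agent.SmallSimple.SylowPrimeCount
import Cfsg.Agent.H833.RS.O73Geo
import Cfsg.Agent.H134.OmegaThree
import Cfsg.Agent.H169.U4
import Cfsg.Agent.H809.SelfCentUni
import Cfsg.Agent.H809.SelfCentPSU
import Cfsg.Agent.H264.FKS.Res_m3
import Cfsg.Agent.H481.TBound
import Cfsg.Agent.H341.ThreeList_m3
import Cfsg.Agent.S0256
import Cfsg.Agent.S0814
import Cfsg.Agent.S2119
import Cfsg.Agent.S2470
import Cfsg.Agent.S2601
import Cfsg.Agent.S2603
import Cfsg.Agent.FastGrp
import Cfsg.Agent.Prune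
set_option linter.all false
prune_inst 0x7f00000000000000000000000000000000000000000000000000000000000000000000000000000000000000000000000000000000000000000000000000000000000000000000000000000000000000003fffffffffffffffffffffffffffbeffbdffffffff
open scoped Cfsg.Agent.FastGrp

-- part: H833/RS/Frat
section
/-!
# The prime divisors of `|M : S|` (helper833)
-/

set_option autoImplicit false
set_option linter.unusedSectionVars false

namespace Cfsg.Agent.H833.RS.Frat

open Subgroup

variable {M : Type*} [Group M] [Finite M]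

/-- elements of order prime to the index of a normal subgroup -/
theorem mem_of_coprime (S : Subgroup M) [S.Normal] {x : M} (h : Nat.Coprime (orderOf x) S.index) : x ∈ S := by
  have h1 : orderOf (QuotientGroup.mk x : M ⧸ S) ∣ orderOf x := orderOf_map_dvd (QuotientGroup.mk' S) x
  have h2 : orderOf (QuotientGroup.mk x : M ⧸ S) ∣ S.index := orderOf_dvd_natCard _
  have h3 : orderOf (QuotientGroup.mk x : M ⧸ S) = 1 := Nat.eq_one_of_dvd_coprimes h h1 h2
  exact (QuotientGroup.eq_one_iff x).1 (orderOf_eq_one_iff.1 h3)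

/-- a Sylow subgroup of prime order and its normalizer -/
theorem exists_frattini (S : Subgroup M) [S.Normal] {s : ℕ} (hs : s.Prime) (hsS : s ∣ Nat.card S)
    (hsM : ¬ s ^ 2 ∣ Nat.card M) : ∃ P : Subgroup M, P ≤ S ∧ Nat.card P = s ∧
      Nat.card (normalizer (P : Set M)) = S.index * Nat.card ↥(S ⊓ normalizer (P : Set M)) := by
  have := Fact.mk hs
  obtain ⟨P⟩ : Nonempty (Sylow s S) := inferInstance
  have hP : Nat.card P = s := by
    obtain ⟨n, hn⟩ := IsPGroup.iff_card.1 P.2
    have h1 : n = 1 := by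
      have h2 : s ∣ Nat.card P := P.dvd_card_of_dvd_card hsS
      have h3 : n < 2 := by
        by_contra hcon
        apply hsM
        refine (pow_dvd_pow s (not_lt.1 hcon)).trans ?_
        rw [← hn]
        exact (card_subgroup_dvd_card _).trans (card_subgroup_dvd_card _)
      have h4 : n ≠ 0 := by
        rintro rfl
        rw [hn, pow_zero, Nat.dvd_one] at h2
        exact hs.one_lt.ne' h2
      omega
    rw [h1, pow_one] at hn
    exact hn
  refine ⟨(P : Subgroup S).map S.subtype, map_subtype_le _, ?_, ?_⟩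
  · rw [card_map_of_injective S.subtype_injective]
    exact hP
  · have h1 := Sylow.normalizer_sup_eq_top P
    have h2 : S.relIndex (normalizer (((P : Subgroup S).map S.subtype : Subgroup M) : Set M)) = S.index := by
      rw [← relIndex_sup_right, h1, relIndex_top_right]
    have h3 := relIndex_mul_relIndex ⊥ (S ⊓ normalizer (((P : Subgroup S).map S.subtype : Subgroup M) : Set M))
      (normalizer (((P : Subgroup S).map S.subtype : Subgroup M) : Set M)) bot_le inf_le_right
    rw [relIndex_bot_left, relIndex_bot_left, inf_relIndex_right, h2, mul_comm] at h3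
    exact h3.symm

/-- elements of order `r` commuting with an element of order `s` -/
theorem exists_comm (S : Subgroup M) [S.Normal] {s r : ℕ} (hs : s.Prime) (hr : r.Prime) (hsS : s ∣ Nat.card S)
    (hsM : ¬ s ^ 2 ∣ Nat.card M) (hrI : r ∣ S.index) (hrs : ¬ r ∣ s - 1) :
    ∃ x y : M, orderOf x = s ∧ orderOf y = r ∧ x * y = y * x := by
  have := Fact.mk hs
  have := Fact.mk hr
  obtain ⟨P, hPS, hP, hN⟩ := exists_frattini S hs hsS hsM
  have h1 : r ∣ Nat.card (normalizer (P : Set M)) := by rw [hN]; exact hrI.mul_right _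
  have h2 := Cfsg.Agent.SmallSimple.SylowPrimeCount.card_normalizer_dvd hs hP (centralizer_le_normalizer _)
  have h3 : r ∣ Nat.card (centralizer (P : Set M)) := ((Nat.Prime.dvd_mul hr).1 (h1.trans h2)).resolve_left hrs
  obtain ⟨y, hy⟩ := exists_prime_orderOf_dvd_card' r h3
  obtain ⟨x, hx⟩ := exists_prime_orderOf_dvd_card' s (dvd_of_eq hP.symm)
  refine ⟨x, y, by rw [orderOf_coe, hx], by rw [orderOf_coe, hy], ?_⟩
  exact mem_centralizer_iff.1 y.2 x x.2

theorem exists_cent {P : Subgroup M} {s r : ℕ} (hs : s.Prime) (hr : r.Prime) (hP : Nat.card P = s)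
    (h : r ∣ Nat.card (centralizer (P : Set M))) : ∃ x y : M, orderOf x = s ∧ orderOf y = r ∧ x * y = y * x := by
  have := Fact.mk hs
  have := Fact.mk hr
  obtain ⟨y, hy⟩ := exists_prime_orderOf_dvd_card' r h
  obtain ⟨x, hx⟩ := exists_prime_orderOf_dvd_card' s (dvd_of_eq hP.symm)
  refine ⟨x, y, by rw [orderOf_coe, hx], by rw [orderOf_coe, hy], ?_⟩
  exact mem_centralizer_iff.1 y.2 x x.2

theorem not_three_dvd (S : Subgroup M) [S.Normal] (hS : Nat.card S = 20160) (hM : ¬ 7 ^ 2 ∣ Nat.card M)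
    (h21 : ∀ x y : M, orderOf x = 7 → orderOf y = 3 → x * y ≠ y * x)
    (h35 : ∀ x y : M, orderOf x = 7 → orderOf y = 5 → x * y ≠ y * x) : ¬ 3 ∣ S.index := by
  intro h3
  have h7 : Nat.Prime 7 := by norm_num
  have := Fact.mk h7
  obtain ⟨P, hPS, hP, hN⟩ := exists_frattini S h7 (by rw [hS]; norm_num) hM
  set k := Nat.card ↥(S ⊓ normalizer (P : Set M)) with hk
  have h2 := Cfsg.Agent.SmallSimple.SylowPrimeCount.card_normalizer_dvd h7 hP (centralizer_le_normalizer _)
  have hk3 : ¬ 3 ∣ k := by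
    intro h
    have h4 : 3 * 3 ∣ (7 - 1) * Nat.card (centralizer (P : Set M)) := by
      refine dvd_trans ?_ h2
      rw [hN]
      exact mul_dvd_mul h3 h
    have h5 : 3 ∣ 2 * Nat.card (centralizer (P : Set M)) := by omega
    have h6 : 3 ∣ Nat.card (centralizer (P : Set M)) := by omega
    obtain ⟨x, y, hx, hy, hxy⟩ := exists_cent h7 Nat.prime_three hP h6
    exact h21 x y hx hy hxy
  have hk5 : ¬ 5 ∣ k := by
    intro h
    have h4 : 5 ∣ (7 - 1) * Nat.card (centralizer (P : Set M)) := by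
      refine dvd_trans ?_ h2
      rw [hN]
      exact h.mul_left _
    have h6 : 5 ∣ Nat.card (centralizer (P : Set M)) := by omega
    obtain ⟨x, y, hx, hy, hxy⟩ := exists_cent h7 (by norm_num) hP h6
    exact h35 x y hx hy hxy
  -- the number of Sylow subgroups
  have hPM : ¬ 7 ∣ P.index := by
    intro h
    apply hM
    rw [← P.card_mul_index, hP, pow_two]
    exact Nat.mul_dvd_mul_left _ h
  let Q : Sylow 7 M := IsPGroup.toSylow (P := P) (IsPGroup.of_card (n := 1) (by rw [hP, pow_one])) hPM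
  have hQ : (Q : Subgroup M) = P := rfl
  have h8 := Sylow.card_eq_index_normalizer Q
  have h9 := card_sylow_modEq_one 7 M
  rw [h8] at h9
  change (normalizer (P : Set M)).index ≡ 1 [MOD 7] at h9
  set n := (normalizer (P : Set M)).index with hn
  have h10 : n * k = 20160 := by
    have h11 := (normalizer (P : Set M)).index_mul_card
    rw [hN, ← S.index_mul_card, hS] at h11
    have h12 : S.index * (n * k) = S.index * 20160 := by rw [← h11]; ring
    exact Nat.eq_of_mul_eq_mul_left (Nat.pos_of_ne_zero S.index_ne_zero_of_finite) h12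
  have h11 : 45 ∣ n := by
    have h12 : Nat.Coprime 45 k := by
      rw [show 45 = 3 * 3 * 5 by norm_num]
      exact Nat.Coprime.mul_left (Nat.Coprime.mul_left ((Nat.prime_three.coprime_iff_not_dvd).2 hk3)
        ((Nat.prime_three.coprime_iff_not_dvd).2 hk3)) (((by norm_num : Nat.Prime 5).coprime_iff_not_dvd).2 hk5)
    refine h12.dvd_of_dvd_mul_right ?_
    rw [h10]
    norm_num
  obtain ⟨m, hm⟩ := h11
  have h12 : m * k = 448 := by
    have h13 : 45 * (m * k) = 45 * 448 := by rw [← mul_assoc, ← hm, h10]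
    exact Nat.eq_of_mul_eq_mul_left (by norm_num) h13
  have h13 : m ∈ Nat.divisors 448 := Nat.mem_divisors.2 ⟨Dvd.intro _ h12, by norm_num⟩
  have h14 : ∀ m ∈ Nat.divisors 448, ¬ 45 * m % 7 = 1 := by decide +kernel
  apply h14 m h13
  rw [← hm]
  exact h9

end Cfsg.Agent.H833.RS.Frat
end

-- part: H833/RS/O73Res
section
/-!
# Almost simple subgroups of `Ω₇(3)` (helper833)
-/

set_option autoImplicit false
set_option linter.unusedSectionVars false

namespace Cfsg.Agent.H833.RS.O73

open Cfsg Cfsg.Agent.OrdDiv Cfsg.Agent.LieClassical.OmegaReindex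
open scoped MatrixGroups

/-! ### simple groups -/

/-- a self-centralizing subgroup of prime order -/
theorem ne_of_selfcent {G : Type*} [Group G] [Finite G] {r : ℕ} (hr : r.Prime) (h2 : ¬ r ^ 2 ∣ Nat.card G)
    (h : ∃ R : Subgroup G, Nat.card R = r ∧ Subgroup.centralizer (R : Set G) = R) {g : G} {k : ℕ} (hk : 1 < k) :
    orderOf g ≠ r * k := by
  intro hg
  have := Fact.mk hr
  obtain ⟨R, hR, hRc⟩ := h
  have hx : orderOf (g ^ k) = r := by
    rw [orderOf_pow_of_dvd (by omega) (by rw [hg]; exact Dvd.intro_left _ rfl), hg]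
    exact Nat.mul_div_cancel _ (by omega)
  have hidx : ∀ P : Subgroup G, Nat.card P = r → ¬ r ∣ P.index := by
    intro P hP h
    apply h2
    rw [← P.card_mul_index, hP, pow_two]
    exact Nat.mul_dvd_mul_left _ h
  have hZ : Nat.card (Subgroup.zpowers (g ^ k)) = r := by rw [Nat.card_zpowers, hx]
  let P₁ : Sylow r G := IsPGroup.toSylow (P := Subgroup.zpowers (g ^ k))
    (IsPGroup.of_card (n := 1) (by rw [hZ, pow_one])) (hidx _ hZ)
  let P₂ : Sylow r G := IsPGroup.toSylow (P := R) (IsPGroup.of_card (n := 1) (by rw [hR, pow_one])) (hidx _ hR)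
  obtain ⟨c, hc⟩ := MulAction.exists_smul_eq G P₁ P₂
  have hc2 : ∀ z ∈ R, ∃ j : ℤ, c * (g ^ k) ^ j * c⁻¹ = z := by
    intro z hz
    have h3 : z ∈ ((c • P₁ : Sylow r G) : Subgroup G) := by rw [hc]; exact hz
    rw [Sylow.coe_subgroup_smul] at h3
    obtain ⟨w, hw, hw2⟩ := Subgroup.mem_map.1 h3
    obtain ⟨j, rfl⟩ := Subgroup.mem_zpowers_iff.1 hw
    exact ⟨j, hw2⟩
  have h3 : c * g * c⁻¹ ∈ Subgroup.centralizer (R : Set G) := by
    rw [Subgroup.mem_centralizer_iff]
    intro z hz
    obtain ⟨j, rfl⟩ := hc2 z hz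
    have h4 : (g ^ k) ^ j * g = g * (g ^ k) ^ j := by
      have h5 : Commute (g ^ k) g := (Commute.refl g).pow_left k
      exact (h5.zpow_left j).eq
    calc c * (g ^ k) ^ j * c⁻¹ * (c * g * c⁻¹) = c * ((g ^ k) ^ j * g) * c⁻¹ := by group
      _ = c * (g * (g ^ k) ^ j) * c⁻¹ := by rw [h4]
      _ = c * g * c⁻¹ * (c * (g ^ k) ^ j * c⁻¹) := by group
  rw [hRc] at h3
  have h4 : orderOf (c * g * c⁻¹) = orderOf g := by
    have := orderOf_injective (MulAut.conj c).toMonoidHom (MulAut.conj c).injective g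
    simpa using this
  have h5 : orderOf (c * g * c⁻¹) ∣ r := by
    rw [← hR, ← Subgroup.orderOf_mk (c * g * c⁻¹) h3]
    exact orderOf_dvd_natCard _
  rw [h4, hg] at h5
  have h6 := Nat.le_of_dvd hr.pos h5
  have h7 := hr.pos
  nlinarith

theorem psl43_ne {F : Type} [Field F] [Fintype F] (hF : Fintype.card F = 3)
    (g : Matrix.ProjectiveSpecialLinearGroup (Fin 4) F) : orderOf g ≠ 15 := by
  have h3 : Fact (Nat.Prime 3) := ⟨Nat.prime_three⟩
  have hch : CharP F 3 := by
    have h4 : (3 : F) = 0 := three_eq hF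
    obtain ⟨p, hp⟩ := CharP.exists F
    have h5 : p ∣ 3 := (CharP.cast_eq_zero_iff F p 3).1 (by exact_mod_cast h4)
    have h6 : p.Prime := CharP.char_is_prime F p
    have h7 := (Nat.prime_dvd_prime_iff_eq h6 Nat.prime_three).1 h5
    rw [← h7]
    exact hp
  have h5 : orderOf ((Fintype.card F : ℕ) : ZMod 5) = 4 := by
    rw [hF, orderOf_eq_iff (by norm_num)]
    exact ⟨by decide, by decide⟩
  have hc : Nat.card (Matrix.ProjectiveSpecialLinearGroup (Fin 4) F) = 6065280 := by
    have h := Cfsg.Agent.H436.psl_eq (F := F) (n := 4) (by norm_num)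
    rw [hF] at h
    have e1 : fPSL.den 4 3 = 4 := by decide +kernel
    have e2 : fPSL.num 4 3 = 24261120 := by decide +kernel
    rw [e1, e2] at h
    omega
  intro hg
  have h6 := (Cfsg.Agent.S2470.result (F := F) 3 4 (by norm_num) (by omega) 5 (by norm_num) (by norm_num) (by norm_num)
    (by rw [hc]; norm_num) 4 h5.symm).2 (Or.inl (by norm_num))
  exact h6 ⟨g, hg⟩

theorem psl34_ne {F : Type} [Field F] [Fintype F] (hF : Fintype.card F = 4)
    (g : Matrix.ProjectiveSpecialLinearGroup (Fin 3) F) : orderOf g ≠ 15 := by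
  have hc : Nat.card (Matrix.ProjectiveSpecialLinearGroup (Fin 3) F) = 20160 := by
    have h := Cfsg.Agent.H436.psl_eq (F := F) (n := 3) (by norm_num)
    rw [hF] at h
    have e1 : fPSL.den 3 4 = 9 := by decide +kernel
    have e2 : fPSL.num 3 4 = 181440 := by decide +kernel
    rw [e1, e2] at h
    omega
  have hfin : Finite (Matrix.ProjectiveSpecialLinearGroup (Fin 3) F) :=
    Nat.finite_of_card_ne_zero (by rw [hc]; norm_num)
  exact ne_of_selfcent (r := 5) (k := 3) (by norm_num) (by rw [hc]; norm_num)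
    (Cfsg.Agent.H809.SelfCent.psl_selfcent 3 4 5 (by simp) F hF) (by norm_num)

theorem card_psp32 {F : Type} [Field F] [Fintype F] (hF : Fintype.card F = 2) : Nat.card (PSp 3 F) = 1451520 := by
  have h := Cfsg.Agent.H436.psp_eq (F := F) (m := 3) (by norm_num)
  rw [hF] at h
  have e1 : fPSp.den 3 2 = 1 := by decide +kernel
  have e2 : fPSp.num 3 2 = 1451520 := by decide +kernel
  rw [e1, e2] at h
  omega

theorem psp32_ne {F : Type} [Field F] [Fintype F] (hF : Fintype.card F = 2) (g : PSp 3 F) : orderOf g ≠ 14 := by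
  have hc := card_psp32 hF
  have hfin : Finite (PSp 3 F) := Nat.finite_of_card_ne_zero (by rw [hc]; norm_num)
  exact ne_of_selfcent (r := 7) (k := 2) (by norm_num) (by rw [hc]; norm_num)
    (Cfsg.Agent.H732.SelfCent.psp_selfcent 3 2 7 (by simp) F hF) (by norm_num)

theorem psu43_ne {F : Type} [Field F] [Fintype F] (hF : Fintype.card F = 3 ^ 2) (g : PSU 4 F 3) :
    orderOf g ≠ 15 := by
  intro hg
  exact Cfsg.Agent.H169.U4.na_char (p := 3) (f := 1) Nat.prime_three le_rfl (by norm_num) hF (r := 5) (by norm_num)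
    (by norm_num) (by norm_num) ⟨g, by rw [hg]⟩

theorem out_psl43 {F : Type} [Field F] [Fintype F] (hF : Fintype.card F = 3) :
    Nat.card (Cfsg.Out (Matrix.ProjectiveSpecialLinearGroup (Fin 4) F)) = 4 := by
  have := Fact.mk Nat.prime_three
  obtain ⟨φ, hs, -, hk⟩ := Cfsg.Agent.S2601.result (F := F) (p := 3) (f := 1) (n := 4) le_rfl (by rw [hF]; norm_num)
    (by norm_num)
  have hcod : Nat.card (Multiplicative (ZMod 1 × ZMod 2)) = 2 := by
    rw [Nat.card_eq_fintype_card]; rfl
  have hidx : φ.ker.index = 2 := by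
    rw [Subgroup.index_ker, MonoidHom.range_eq_top.2 hs, Subgroup.card_top, hcod]
  rw [← φ.ker.card_mul_index, hidx, hk]
  norm_num

theorem out_psu43 {F : Type} [Field F] [Fintype F] (hF : Fintype.card F = 3 ^ 2) :
    Nat.card (Cfsg.Out (PSU 4 F 3)) = 8 := by
  have := Fact.mk Nat.prime_three
  obtain ⟨φ, hs, -, hk⟩ := Cfsg.Agent.S2603.result (K := F) (p := 3) (f := 1) (q := 3) (n := 4) le_rfl (by norm_num) hF
    (by norm_num) (by norm_num)
  have hcod : Nat.card (Multiplicative (ZMod (2 * 1))) = 2 := by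
    rw [Nat.card_eq_fintype_card]; rfl
  have hidx : φ.ker.index = 2 := by
    rw [Subgroup.index_ker, MonoidHom.range_eq_top.2 hs, Subgroup.card_top, hcod]
  rw [← φ.ker.card_mul_index, hidx, hk]
  norm_num

theorem aut_psp32 {F : Type} [Field F] [Fintype F] (hF : Fintype.card F = 2) :
    Nat.card (MulAut (PSp 3 F)) = 1451520 := by
  have := Fact.mk Nat.prime_two
  have h := Cfsg.Agent.S0814.result (F := F) 2 1 le_rfl (by rw [hF]; norm_num) 3 (by norm_num) (by norm_num)
  rw [h, card_psp32 hF]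
  norm_num

/-! ### almost simple groups -/

section almost

variable {M : Type} [Group M] [Finite M] {S : Subgroup M} [S.Normal] [IsSimpleGroup S]

theorem index_dvd_out (hna : ¬ IsMulCommutative S) (hC : Subgroup.centralizer (S : Set M) = ⊥) :
    S.index ∣ Nat.card (Cfsg.Out S) := by
  have h1 := H264.FKS.dvd_aut S hC
  rw [← H934.OutB.card_out_mul S hna, ← S.index_mul_card] at h1
  exact Nat.dvd_of_mul_dvd_mul_right Nat.card_pos h1

theorem ne_of_index {n : ℕ} (hS : ∀ g : S, orderOf g ≠ n) (hi : Nat.Coprime n S.index) (x : M) : orderOf x ≠ n := by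
  intro hx
  have h1 : x ∈ S := Frat.mem_of_coprime S (by rwa [hx])
  exact hS ⟨x, h1⟩ (by rw [Subgroup.orderOf_mk, hx])

/-- alternating socle -/
theorem alt_ne (hC : Subgroup.centralizer (S : Set M) = ⊥) {n : ℕ} (hn4 : 4 ≤ n) (hn6 : n ≠ 6) (hn : n ≤ 9)
    (e : S ≃* alternatingGroup (Fin n)) (x : M) : orderOf x ≠ 18 := by
  intro hx
  have hinj : Function.Injective (MulAut.conjNormal : M →* MulAut S) := by
    rw [← MonoidHom.ker_eq_bot_iff, eq_bot_iff]
    intro x hx
    rw [← hC, Subgroup.mem_centralizer_iff]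
    intro y hy
    have h1 := DFunLike.congr_fun ((MonoidHom.mem_ker).1 hx) ⟨y, hy⟩
    have h2 := congrArg Subtype.val h1
    rw [MulAut.conjNormal_apply, MulAut.one_apply] at h2
    exact (mul_inv_eq_iff_eq_mul.1 h2).symm
  have hb := Cfsg.Agent.S2119.result n hn4 hn6
  obtain ⟨σ, hσ⟩ := hb.2 (MulAut.congr e (MulAut.conjNormal x))
  have h1 : orderOf σ = 18 := by
    rw [← orderOf_injective _ hb.1 σ, hσ]
    have h2 := orderOf_injective (MulAut.congr e).toMonoidHom (MulAut.congr e).injective (MulAut.conjNormal x : MulAut S)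
    rw [← hx, ← orderOf_injective _ hinj x, ← h2]
    rfl
  exact perm_ne_18 hn σ h1

end almost

/-! ### subgroups of `Ω₇(3)` -/

section T

variable {F : Type} [Field F] [Fintype F]

theorem card_T (hF : Fintype.card F = 3) : Nat.card (POmega F ⇑(quadOdd 3 F)) = 4585351680 := by
  have h : Nat.card (POmega F (quadFormOdd 3 F)) = 4585351680 := by
    have hord := Cfsg.Agent.S0292.result (F := F) (q := 3) hF (by decide) 3 (by norm_num)
    simp only [Finset.prod_range_succ, Finset.prod_range_zero] at hord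
    norm_num at hord ⊢
    omega
  rw [← coe_quadOdd] at h
  exact h

theorem not_13 (hF : Fintype.card F = 3) {x y : POmega F ⇑(quadOdd 3 F)} {r : ℕ} (hr : r.Prime) (hr13 : r ≠ 13)
    (hx : orderOf x = r) (hy : orderOf y = 13) (h : x * y = y * x) : False := by
  have hc := card_T hF
  have hfin : Finite (POmega F ⇑(quadOdd 3 F)) := Nat.finite_of_card_ne_zero (by rw [hc]; norm_num)
  have h1 : ∃ R : Subgroup (POmega F ⇑(quadOdd 3 F)), Nat.card R = 13 ∧
      Subgroup.centralizer (R : Set (POmega F ⇑(quadOdd 3 F))) = R := by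
    rw [coe_quadOdd]
    exact Cfsg.Agent.H134.OmegaThree.omega_odd_three hF
  refine ne_of_selfcent (r := 13) (k := r) (g := x * y) (by norm_num) (by rw [hc]; norm_num) h1 hr.one_lt ?_
  have h2 : Commute x y := h
  rw [h2.orderOf_mul_eq_mul_orderOf_of_coprime, hx, hy, mul_comm]
  rw [hx, hy]
  exact (Nat.coprime_primes hr (by norm_num)).2 hr13

theorem no_pair (hF : Fintype.card F = 3) {x y : POmega F ⇑(quadOdd 3 F)} {r s : ℕ} (hr : r = 5 ∨ r = 7 ∨ r = 13)
    (hs : s = 5 ∨ s = 7 ∨ s = 13) (hrs : r ≠ s) (hx : orderOf x = r) (hy : orderOf y = s) (h : x * y = y * x) :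
    False := by
  rcases hr with rfl | rfl | rfl <;> rcases hs with rfl | rfl | rfl
  · exact hrs rfl
  · exact not_35 hF hx hy h
  · exact not_13 hF (by norm_num) (by norm_num) hx hy h
  · exact not_35 hF hy hx h.symm
  · exact hrs rfl
  · exact not_13 hF (by norm_num) (by norm_num) hx hy h
  · exact not_13 hF (by norm_num) (by norm_num) hy hx h.symm
  · exact not_13 hF (by norm_num) (by norm_num) hy hx h.symm
  · exact hrs rfl

theorem sq_not_dvd (hF : Fintype.card F = 3) {M : Subgroup (POmega F ⇑(quadOdd 3 F))} {s : ℕ}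
    (hs : s = 5 ∨ s = 7 ∨ s = 13) : ¬ s ^ 2 ∣ Nat.card M := by
  intro h
  have h1 := h.trans (Subgroup.card_subgroup_dvd_card M)
  rw [card_T hF] at h1
  rcases hs with rfl | rfl | rfl <;> norm_num at h1

/-- the primes 5, 7, 13 dividing `|M|` divide the order of the socle -/
theorem dvd_socle (tab : OrderTable.{0}) (hK : ∀ (X : Type) [Group X] [Finite X] [IsSimpleGroup X],
    Cfsg.IsKnownSimple' X) (hF : Fintype.card F = 3) {M : Subgroup (POmega F ⇑(quadOdd 3 F))} [Finite M]
    {S : Subgroup M} [S.Normal] [IsSimpleGroup S] (hna : ¬ IsMulCommutative S) {r : ℕ}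
    (hr : r = 5 ∨ r = 7 ∨ r = 13) (h : r ∣ Nat.card M) : r ∣ Nat.card S := by
  by_contra hn
  have hrp : r.Prime := by rcases hr with rfl | rfl | rfl <;> norm_num
  have hd : Nat.card S ∣ 4585351680 := by
    rw [← card_T hF]
    exact (Subgroup.card_subgroup_dvd_card S).trans (Subgroup.card_subgroup_dvd_card M)
  have h1 : ∃ s, (s = 5 ∨ s = 7 ∨ s = 13) ∧ s ∣ Nat.card S := by
    by_contra hcon
    push Not at hcon
    have h5 := hcon 5 (by simp)
    have h7 := hcon 7 (by simp)
    have h13 := hcon 13 (by simp)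
    obtain ⟨g, hg, -⟩ := exists_real_filter tab (hK S) (fun h => hna ⟨⟨h⟩⟩)
      (l := [(2, 9), (3, 9), (5, 1), (7, 1), (13, 1)]) (N := 4585351680) (by decide +kernel) hd
      (fun n => n % 5 != 0 && (n % 7 != 0 && n % 13 != 0)) (by
        simp only [Bool.and_eq_true, bne_iff_ne, ne_eq]
        exact ⟨fun h => h5 (Nat.dvd_of_mod_eq_zero h), fun h => h7 (Nat.dvd_of_mod_eq_zero h),
          fun h => h13 (Nat.dvd_of_mod_eq_zero h)⟩)
    rw [show (cands [(2, 9), (3, 9), (5, 1), (7, 1), (13, 1)] 4585351680).filter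
      (fun g => (fun n => n % 5 != 0 && (n % 7 != 0 && n % 13 != 0)) (ordN g)) = [] by decide +kernel] at hg
    simp at hg
  obtain ⟨s, hs, hsd⟩ := h1
  have hrs : r ≠ s := by
    rintro rfl
    exact hn hsd
  have hsp : s.Prime := by rcases hs with rfl | rfl | rfl <;> norm_num
  have hI : r ∣ S.index := by
    rw [← S.card_mul_index] at h
    exact ((Nat.Prime.dvd_mul hrp).1 h).resolve_left hn
  obtain ⟨x, y, hx, hy, hxy⟩ := Frat.exists_comm S hsp hrp hsd (sq_not_dvd hF hs) hI (by
    rcases hr with rfl | rfl | rfl <;> rcases hs with rfl | rfl | rfl <;> norm_num)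
  exact no_pair hF (x := (x : POmega F ⇑(quadOdd 3 F))) (y := (y : POmega F ⇑(quadOdd 3 F))) hs hr hrs.symm
    (by rw [Subgroup.orderOf_coe, hx]) (by rw [Subgroup.orderOf_coe, hy]) (congrArg Subtype.val hxy)

/-- socles with order divisible by 35 and not by 13 -/
theorem res_c (tab : OrderTable.{0}) (hK : ∀ (X : Type) [Group X] [Finite X] [IsSimpleGroup X],
    Cfsg.IsKnownSimple' X) (hF : Fintype.card F = 3) {M : Subgroup (POmega F ⇑(quadOdd 3 F))} [Finite M]
    {S : Subgroup M} [S.Normal] [IsSimpleGroup S] (hna : ¬ IsMulCommutative S)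
    (hC : Subgroup.centralizer (S : Set M) = ⊥) (h5 : 5 ∣ Nat.card M) (h7 : 7 ∣ Nat.card M)
    (h13 : ¬ 13 ∣ Nat.card M) :
    (∀ x : M, orderOf x ≠ 15) ∨ (∀ x : M, orderOf x ≠ 18) ∨ (∀ x : M, orderOf x ≠ 14) := by
  have h5S := dvd_socle tab hK hF hna (r := 5) (by simp) h5
  have h7S := dvd_socle tab hK hF hna (r := 7) (by simp) h7
  have h13S : ¬ 13 ∣ Nat.card S := fun h => h13 (h.trans (Subgroup.card_subgroup_dvd_card S))
  have h35 : 35 ∣ Nat.card S := Nat.Coprime.mul_dvd_of_dvd_of_dvd (by norm_num) h5S h7S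
  have hd : Nat.card S ∣ 4585351680 := by
    rw [← card_T hF]
    exact (Subgroup.card_subgroup_dvd_card S).trans (Subgroup.card_subgroup_dvd_card M)
  have hI5 : ¬ 5 ∣ S.index := by
    intro h
    refine sq_not_dvd hF (M := M) (s := 5) (by simp) ?_
    rw [← S.card_mul_index, pow_two]
    exact mul_dvd_mul h5S h
  have hidx := index_dvd_out hna hC
  have hcop : ¬ 3 ∣ S.index → Nat.Coprime 15 S.index := fun h3 => by
    rw [show 15 = 3 * 5 by norm_num]
    exact Nat.Coprime.mul_left ((Nat.prime_three.coprime_iff_not_dvd).2 h3)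
      (((by norm_num : Nat.Prime 5).coprime_iff_not_dvd).2 hI5)
  obtain ⟨g, hg, hreal⟩ := exists_real_filter tab (hK S) (fun h => hna ⟨⟨h⟩⟩)
    (l := [(2, 9), (3, 9), (5, 1), (7, 1), (13, 1)]) (N := 4585351680) (by decide +kernel) hd
    (fun n => n % 35 == 0 && n % 13 != 0) (by
      simp only [Bool.and_eq_true, bne_iff_ne, ne_eq, beq_iff_eq]
      exact ⟨Nat.mod_eq_zero_of_dvd h35, fun h => h13S (Nat.dvd_of_mod_eq_zero h)⟩)
  rw [show (cands [(2, 9), (3, 9), (5, 1), (7, 1), (13, 1)] 4585351680).filter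
    (fun g => (fun n => n % 35 == 0 && n % 13 != 0) (ordN g)) =
      [.alt 7, .alt 8, .alt 9, .psl 4 2, .psl 3 4, .psp 3 2, .psu 4 3] by decide +kernel] at hg
  simp only [List.mem_cons, List.not_mem_nil, or_false] at hg
  rcases hg with rfl | rfl | rfl | rfl | rfl | rfl | rfl
  · obtain ⟨e⟩ := hreal
    exact Or.inr (Or.inl (alt_ne hC (by norm_num) (by norm_num) (by norm_num) e))
  · obtain ⟨e⟩ := hreal
    exact Or.inr (Or.inl (alt_ne hC (by norm_num) (by norm_num) (by norm_num) e))
  · obtain ⟨e⟩ := hreal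
    exact Or.inr (Or.inl (alt_ne hC (by norm_num) (by norm_num) (by norm_num) e))
  · obtain ⟨F', _, _, hF', ⟨e⟩⟩ := hreal
    obtain ⟨e'⟩ := Cfsg.Agent.S0256.result hF'
    exact Or.inr (Or.inl (alt_ne hC (n := 8) (by norm_num) (by norm_num) (by norm_num) (e.trans e')))
  · obtain ⟨F', _, _, hF', ⟨e⟩⟩ := hreal
    have hcS : Nat.card S = 20160 := by
      rw [Nat.card_congr e.toEquiv]
      have h := Cfsg.Agent.H436.psl_eq (F := F') (n := 3) (by norm_num)
      rw [hF'] at h
      have e1 : fPSL.den 3 4 = 9 := by decide +kernel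
      have e2 : fPSL.num 3 4 = 181440 := by decide +kernel
      rw [e1, e2] at h
      omega
    refine Or.inl (ne_of_index (S := S) (fun g => ?_) (hcop ?_))
    · rw [← MulEquiv.orderOf_eq e]
      exact psl34_ne hF' _
    · refine Frat.not_three_dvd S hcS (sq_not_dvd hF (by simp)) (fun x y hx hy hxy => ?_) (fun x y hx hy hxy => ?_)
      · exact not_21 hF (x := (y : POmega F ⇑(quadOdd 3 F))) (y := (x : POmega F ⇑(quadOdd 3 F)))
          (by rw [Subgroup.orderOf_coe, hy]) (by rw [Subgroup.orderOf_coe, hx]) (congrArg Subtype.val hxy.symm)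
      · exact not_35 hF (x := (y : POmega F ⇑(quadOdd 3 F))) (y := (x : POmega F ⇑(quadOdd 3 F)))
          (by rw [Subgroup.orderOf_coe, hy]) (by rw [Subgroup.orderOf_coe, hx]) (congrArg Subtype.val hxy.symm)
  · obtain ⟨F', _, _, hF', ⟨e⟩⟩ := hreal
    refine Or.inr (Or.inr (ne_of_index (S := S) (fun g => ?_) ?_))
    · rw [← MulEquiv.orderOf_eq e]
      exact psp32_ne hF' _
    · have h1 := H264.FKS.dvd_aut S hC
      rw [Nat.card_congr (MulAut.congr e).toEquiv, aut_psp32 hF', ← card_psp32 hF', ← Nat.card_congr e.toEquiv,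
        ← S.card_mul_index] at h1
      have h2 : S.index ∣ 1 := by
        refine Nat.dvd_of_mul_dvd_mul_left (Nat.card_pos (α := S)) ?_
        rwa [mul_one]
      rw [Nat.dvd_one.1 h2]
      exact Nat.coprime_one_right _
  · obtain ⟨F', _, _, hF', ⟨e⟩⟩ := hreal
    refine Or.inl (ne_of_index (S := S) (fun g => ?_) (hcop ?_))
    · rw [← MulEquiv.orderOf_eq e]
      exact psu43_ne hF' _
    · rw [H934.OutB.card_out_congr e, out_psu43 hF'] at hidx
      intro h
      exact absurd (h.trans hidx) (by norm_num)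

/-- socles with order divisible by 65 and not by 7 -/
theorem res_d (tab : OrderTable.{0}) (hK : ∀ (X : Type) [Group X] [Finite X] [IsSimpleGroup X],
    Cfsg.IsKnownSimple' X) (hF : Fintype.card F = 3) {M : Subgroup (POmega F ⇑(quadOdd 3 F))} [Finite M]
    {S : Subgroup M} [S.Normal] [IsSimpleGroup S] (hna : ¬ IsMulCommutative S)
    (hC : Subgroup.centralizer (S : Set M) = ⊥) (h5 : 5 ∣ Nat.card M) (h13 : 13 ∣ Nat.card M)
    (h7 : ¬ 7 ∣ Nat.card M) : ∀ x : M, orderOf x ≠ 15 := by
  have h5S := dvd_socle tab hK hF hna (r := 5) (by simp) h5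
  have h13S := dvd_socle tab hK hF hna (r := 13) (by simp) h13
  have h7S : ¬ 7 ∣ Nat.card S := fun h => h7 (h.trans (Subgroup.card_subgroup_dvd_card S))
  have h65 : 65 ∣ Nat.card S := Nat.Coprime.mul_dvd_of_dvd_of_dvd (by norm_num) h5S h13S
  have hd : Nat.card S ∣ 4585351680 := by
    rw [← card_T hF]
    exact (Subgroup.card_subgroup_dvd_card S).trans (Subgroup.card_subgroup_dvd_card M)
  have hidx := index_dvd_out hna hC
  obtain ⟨g, hg, hreal⟩ := exists_real_filter tab (hK S) (fun h => hna ⟨⟨h⟩⟩)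
    (l := [(2, 9), (3, 9), (5, 1), (7, 1), (13, 1)]) (N := 4585351680) (by decide +kernel) hd
    (fun n => n % 65 == 0 && n % 7 != 0) (by
      simp only [Bool.and_eq_true, bne_iff_ne, ne_eq, beq_iff_eq]
      exact ⟨Nat.mod_eq_zero_of_dvd h65, fun h => h7S (Nat.dvd_of_mod_eq_zero h)⟩)
  rw [show (cands [(2, 9), (3, 9), (5, 1), (7, 1), (13, 1)] 4585351680).filter
    (fun g => (fun n => n % 65 == 0 && n % 7 != 0) (ordN g)) = [.psl 4 3] by decide +kernel] at hg
  rw [List.mem_singleton] at hg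
  subst hg
  obtain ⟨F', _, _, hF', ⟨e⟩⟩ := hreal
  refine ne_of_index (S := S) (fun g => ?_) ?_
  · rw [← MulEquiv.orderOf_eq e]
    exact psl43_ne hF' _
  · rw [H934.OutB.card_out_congr e, out_psl43 hF'] at hidx
    exact (show Nat.Coprime 15 4 by norm_num).coprime_dvd_right hidx

end T

end Cfsg.Agent.H833.RS.O73
end
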